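import Groth.Agent.QCoh.SubCompare
import Groth.Agent.QCoh.Serre
import Groth.Agent.QCoh.CokerQC
import Groth.Agent.QCoh.DevissageSum
import Groth.Agent.QCoh.Extension
import Mathlib

/-!
# Serre classes of coherent modules on a Noetherian scheme are determined by supports
-/

set_option autoImplicit false

universe u

open CategoryTheory CategoryTheory.Limits AlgebraicGeometry TopologicalSpace Opposite

namespace Groth.Agent.CohGab92

open Groth.Agent.QCoh

variable {X : Scheme.{u}}

/-- A Serre class on coherent modules, in the form used by the statements. -/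
abbrev IsSerreCoh (P : ObjectProperty X.Modules) : Prop :=
  ∀ S : ShortComplex X.Modules, S.ShortExact → Coh.IsCoh S.X₁ → Coh.IsCoh S.X₂ →
    Coh.IsCoh S.X₃ → (P S.X₂ ↔ P S.X₁ ∧ P S.X₃)

theorem shortExact_cokernel {A B : X.Modules} (f : A ⟶ B) [Mono f] :
    (ShortComplex.mk f (cokernel.π f) (cokernel.condition f)).ShortExact :=
  .mk' (ShortComplex.exact_of_g_is_cokernel _ (cokernelIsCokernel f)) inferInstance inferInstance

theorem isCoh_of_iso {M N : X.Modules} (e : M ≅ N) (hM : Coh.IsCoh M) : Coh.IsCoh N :=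
  isCoh_of_epi e.hom hM ((isQCoh_iff_iso e).1 hM.1)

theorem isCoh_zero [IsNoetherian X] {Z : X.Modules} (h : IsZero Z) : Coh.IsCoh Z :=
  haveI : Mono (0 : Z ⟶ Coh.structureModule X) := ⟨fun _ _ _ => h.eq_of_tgt _ _⟩
  isCoh_of_mono (0 : Z ⟶ Coh.structureModule X) isCoh_structureModule' (isQCoh_of_isZero h)

theorem serre_of_mono {P : ObjectProperty X.Modules} (hP : IsSerreCoh P) {A B : X.Modules}
    (f : A ⟶ B) [Mono f] (hA : Coh.IsCoh A) (hB : Coh.IsCoh B) (h : P B) : P A :=
  ((hP _ (shortExact_cokernel f) hA hB (isCoh_cokernel hA.1 hB f)).1 h).1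

theorem serre_of_iso {P : ObjectProperty X.Modules} (hP : IsSerreCoh P) {A B : X.Modules}
    (e : A ≅ B) (hB : Coh.IsCoh B) (h : P B) : P A :=
  serre_of_mono hP e.hom (isCoh_of_iso e.symm hB) hB h

theorem serre_of_isZero {P : ObjectProperty X.Modules} (hP : IsSerreCoh P) [IsNoetherian X]
    {F : X.Modules} (hF : Coh.IsCoh F) (hPF : P F) {Z : X.Modules} (h : IsZero Z) : P Z := by
  haveI : Mono (0 : Z ⟶ F) := ⟨fun _ _ _ => h.eq_of_tgt _ _⟩
  exact serre_of_mono hP (0 : Z ⟶ F) (isCoh_zero h) hF hPF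

theorem exists_eval_smul_eq_zero {A M : Type u} [CommRing A] [AddCommGroup M] [Module A M]
    [Module.Finite A M] (I : Ideal A) (b : A) (h : ∀ m : M, b • m ∈ I • (⊤ : Submodule A M)) :
    ∃ (c : A) (n : ℕ), c - b ^ n ∈ I ∧ ∀ m : M, c • m = 0 := by
  obtain ⟨p, hmon, -, hcoef, hp⟩ := LinearMap.exists_monic_and_natDegree_eq_and_coeff_mem_pow_and_aeval_eq_zero A
    (algebraMap A (Module.End A M) b) I (by rintro _ ⟨m, rfl⟩; exact h m)
  refine ⟨p.eval b, p.natDegree, ?_, fun m => ?_⟩
  · rw [Polynomial.eval_eq_sum_range, Finset.sum_range_succ, hmon.coeff_natDegree, one_mul,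
      add_sub_cancel_right]
    refine Ideal.sum_mem _ fun k hk => Ideal.mul_mem_right _ _ ?_
    exact Ideal.pow_le_self (Nat.sub_ne_zero_of_lt (Finset.mem_range.1 hk)) (hcoef k)
  · rw [Polynomial.aeval_algebraMap_apply_eq_algebraMap_eval] at hp
    exact congrArg (fun g : Module.End A M => g m) hp

/-- The restriction of a module to the reduced closure of a point of its support. -/
theorem exists_killed_quotient [IsNoetherian X] {F : X.Modules} (hF : Coh.IsCoh F) (ξ : X)
    (hξ : ξ ∈ CohB1.support F) :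
    ∃ (G : X.Modules) (q : F ⟶ G), Epi q ∧ Coh.IsCoh G ∧ CohB1.support G ⊆ closure {ξ} ∧
      ξ ∈ CohB1.support G ∧
      ∀ (V : X.affineOpens) (a : Γ(X, V.1)), ξ ∉ X.basicOpen a → ∀ m : Γ(G, V.1), a • m = 0 := by
  set J := Scheme.IdealSheafData.vanishingIdeal (Closeds.closure {ξ}) with hJ
  let k := Dual3.idealMulι J F
  have hK := isQCoh_idealMul J hF.1
  have hG : Coh.IsCoh (cokernel k) := isCoh_cokernel hK hF k
  have hkill : ∀ (V : X.affineOpens) (a : Γ(X, V.1)), ξ ∉ X.basicOpen a →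
      ∀ m : Γ(cokernel k, V.1), a • m = 0 := by
    intro V a ha m
    obtain ⟨n, rfl⟩ := app_surjective_of_epi hF.1 hG.1 (cokernel.π k) V.2 m
    have h1 : a • n ∈ LinearMap.range (appLin k V.1) := by
      rw [range_idealMul J hF.1 V.2]
      exact Submodule.smul_mem_smul ((mem_vanishing_closure_iff ξ a).2 ha) Submodule.mem_top
    obtain ⟨w, hw⟩ := h1
    rw [← Scheme.Modules.Hom.app_smul]
    exact (congrArg _ hw.symm).trans (cokernel_π_app_app w)
  refine ⟨cokernel k, cokernel.π k, inferInstance, hG, fun x hx => ?_, ?_, hkill⟩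
  · by_contra hxc
    obtain ⟨_, ⟨V, hV, rfl⟩, hxV, hVc⟩ := X.isBasis_affineOpens.exists_subset_of_mem_open
      (show x ∈ (closure {ξ})ᶜ from hxc) isClosed_closure.isOpen_compl
    refine (notMem_support_iff hG.1 hV hxV).2 (fun m => ⟨1, ?_, ?_⟩) hx
    · rw [Scheme.basicOpen_of_isUnit _ isUnit_one]; exact hxV
    · exact hkill ⟨V, hV⟩ 1 (fun h => hVc (X.basicOpen_le _ h) (subset_closure rfl)) m
  · by_contra hn
    obtain ⟨U, hU, hξU⟩ := exists_affine_mem ξ
    haveI := finite_sections hF hU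
    obtain ⟨s, hs⟩ := (Module.Finite.fg_top : (⊤ : Submodule Γ(X, U) Γ(F, U)).FG)
    choose b hb hb0 using fun n : Γ(F, U) =>
      (notMem_support_iff hG.1 hU hξU).1 hn ((cokernel.π k).app U n)
    set p := hU.primeIdealOf ⟨ξ, hξU⟩
    have hbp : ∀ n, b n ∉ p.asIdeal := fun n => (mem_basicOpen_iff_notMem hU hξU _).1 (hb n)
    classical
    set c := ∏ n ∈ s, b n with hc
    have hcM : ∀ m : Γ(F, U), c • m ∈ J.ideal ⟨U, hU⟩ • (⊤ : Submodule Γ(X, U) Γ(F, U)) := by
      intro m
      have : m ∈ Submodule.span Γ(X, U) (s : Set Γ(F, U)) := hs.symm ▸ Submodule.mem_top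
      induction this using Submodule.span_induction with
      | mem n hn' =>
        have h0 : (cokernel.π k).app U (b n • n) = 0 := by
          rw [Scheme.Modules.Hom.app_smul]; exact hb0 n
        obtain ⟨w, hw⟩ := exists_app_f_eq (shortExact_cokernel k) U _ h0
        rw [hc, ← Finset.mul_prod_erase _ b hn', mul_comm, mul_smul]
        refine Submodule.smul_mem _ _ ?_
        rw [← range_idealMul J hF.1 hU]
        exact ⟨w, hw⟩
      | zero => rw [smul_zero]; exact zero_mem _
      | add _ _ _ _ h h' => rw [smul_add]; exact add_mem h h'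
      | smul r _ _ h => rw [smul_comm]; exact Submodule.smul_mem _ _ h
    obtain ⟨e, n, hen, he⟩ := exists_eval_smul_eq_zero _ c hcM
    have hep : e ∉ p.asIdeal := fun h => by
      have h1 : e - c ^ n ∈ p.asIdeal := by
        by_contra hd
        exact (mem_vanishing_closure_iff ξ (V := ⟨U, hU⟩) _).1 hen
          ((mem_basicOpen_iff_notMem hU hξU _).2 hd)
      have h2 := p.isPrime.mem_of_pow_mem n (by simpa using sub_mem h h1)
      obtain ⟨i, -, hi⟩ := (Ideal.IsPrime.prod_mem_iff (hp := p.isPrime)).1 h2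
      exact hbp i hi
    exact (notMem_support_iff hF.1 hU hξU).2
      (fun m => ⟨e, (mem_basicOpen_iff_notMem hU hξU _).2 hep, he m⟩) hξ

/-- Coherent modules supported in the support of a member of a Serre class belong to it. -/
theorem mem_of_support_subset [IsNoetherian X] {P : ObjectProperty X.Modules} (hP : IsSerreCoh P)
    {F : X.Modules} (hF : Coh.IsCoh F) (hPF : P F) {E : X.Modules} (hE : Coh.IsCoh E)
    (hsupp : CohB1.support E ⊆ CohB1.support F) : P E := by
  let P' : X.Modules → Prop := fun M => Coh.IsCoh M → P M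
  suffices h : P' E from h hE
  refine devissage P' (fun M N ⟨e⟩ h hN => serre_of_iso hP e.symm (isCoh_of_iso e.symm hN)
      (h (isCoh_of_iso e.symm hN)))
    (fun M hM _ => serre_of_isZero hP hF hPF hM) (CohB1.support F)
    (fun S hS a b c _ h1 h3 hb => (hP S hS a b c).2 ⟨h1 a, h3 c⟩)
    (fun ξ hξ hsmall Z i _ _ hr => ?_)
    (fun S hS a b c _ h2 _ ha => ((hP S hS a b c).1 (h2 b)).1) hE hsupp
  intro hZ
  obtain ⟨G, q, hq, hG, hGs, hξG, hkill⟩ := exists_killed_quotient hF ξ (hξ (subset_closure rfl))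
  haveI := hq
  have hPG : P G := by
    have hK := isCoh_kernel hF hG q
    exact ((hP (ShortComplex.mk (kernel.ι q) q (kernel.condition q))
      (.mk' (ShortComplex.exact_of_f_is_kernel _ (kernelIsKernel q)) inferInstance hq) hK hF hG).1 hPF).2
  obtain ⟨r, hr0, h⟩ := exists_sum_structure P' ξ
    (fun S hS a b c _ => ⟨fun _ h2 hc => ((hP S hS a b c).1 (h2 b)).2,
      fun h1 h3 hb => (hP S hS a b c).2 ⟨h1 a, h3 c⟩,
      fun h2 _ ha => ((hP S hS a b c).1 (h2 b)).1⟩)
    hsmall hG hGs hξG hkill (fun _ => hPG) i hr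
  let T : ULift.{u} (Fin r) → X.Modules := fun _ => (Coh.push i).obj (Coh.structureModule Z)
  haveI := hasFiniteBiproducts X
  have hT : Coh.IsCoh (⨁ T) := isCoh_biproduct T fun _ => hZ
  exact serre_of_mono hP (biproduct.ι T ⟨⟨0, hr0⟩⟩) hZ hT (h hT)

theorem support_of_shortExact {S : ShortComplex X.Modules} (hS : S.ShortExact) (h₁ : Coh.IsQCoh S.X₁)
    (h₂ : Coh.IsQCoh S.X₂) (h₃ : Coh.IsQCoh S.X₃) :
    CohB1.support S.X₂ = CohB1.support S.X₁ ∪ CohB1.support S.X₃ := by
  haveI := hS.mono_f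
  haveI := hS.epi_g
  exact le_antisymm (support_subset_union hS h₁ h₂ h₃)
    (Set.union_subset (mem_support_of_mono h₁ h₂ S.f) (support_of_epi h₂ h₃ S.g))

theorem isSerreCoh_support (T : Set X) :
    IsSerreCoh (fun M : X.Modules => CohB1.support M ⊆ T) := fun S hS a b c => by
  show CohB1.support S.X₂ ⊆ T ↔ _
  rw [support_of_shortExact hS a.1 b.1 c.1, Set.union_subset_iff]

end Groth.Agent.CohGab92
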