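import Groth.Agent.CohGab92.Basic
import Groth.Agent.QCoh.ExtendFT

/-!
# The centre of the category of coherent modules on a Noetherian scheme
-/

set_option autoImplicit false

universe u

open CategoryTheory CategoryTheory.Limits AlgebraicGeometry TopologicalSpace Opposite

namespace Groth.Agent.CohGab92

open Groth.Agent.QCoh

variable {X : Scheme.{u}}

/-- The category of coherent modules. -/
abbrev CohCat (X : Scheme.{u}) : Type (u + 1) :=
  ObjectProperty.FullSubcategory (fun M : X.Modules => Coh.IsCoh M)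

theorem natTrans_app_eq_smul [IsNoetherian X] (φ : 𝟭 (CohCat X) ⟶ 𝟭 (CohCat X))
    (M : CohCat X) {V : X.Opens} (hV : IsAffineOpen V) (m : Γ(M.obj, V)) :
    (φ.app M).hom.app V m =
      (show Γ(X, V) from (φ.app (⟨Coh.structureModule X, isCoh_structureModule'⟩ : CohCat X)).hom.app V
        (show Γ(Coh.structureModule X, V) from (1 : Γ(X, V)))) • m := by
  haveI := hasFiniteBiproducts X
  let O : CohCat X := ⟨Coh.structureModule X, isCoh_structureModule'⟩
  let T : ULift.{u} Bool → X.Modules := fun b => bif b.down then O.obj else M.obj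
  have hT : ∀ b, Coh.IsCoh (T b) := fun ⟨b⟩ => by cases b; exacts [M.property, O.property]
  let G : X.Modules := ⨁ T
  have hG : Coh.IsCoh G := isCoh_biproduct T hT
  let g : Γ(G, V) := (biproduct.ι T ⟨true⟩).app V (show Γ(O.obj, V) from (1 : Γ(X, V))) +
    (biproduct.ι T ⟨false⟩).app V m
  have hπ : ∀ (b c : ULift.{u} Bool) (x : Γ(T b, V)), b ≠ c →
      (biproduct.π T c).app V ((biproduct.ι T b).app V x) = 0 := fun b c x h =>
    congr(($(biproduct.ι_π_ne T h)).app V x)
  have hπ' : ∀ (b : ULift.{u} Bool) (x : Γ(T b, V)),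
      (biproduct.π T b).app V ((biproduct.ι T b).app V x) = x := fun b x =>
    congr(($(biproduct.ι_π_self T b)).app V x)
  have hg₁ : (biproduct.π T ⟨true⟩).app V g = (show Γ(O.obj, V) from (1 : Γ(X, V))) := by
    rw [map_add, hπ', hπ _ _ _ (by simp), add_zero]
  have hg₂ : (biproduct.π T ⟨false⟩).app V g = m := by
    rw [map_add, hπ', hπ _ _ _ (by simp), zero_add]
  obtain ⟨p, hp, hsup, hstep⟩ := extStep_noetherian (X := X)
    (fun x => ⟨⊤, trivial, (Topology.IsInducing.subtypeVal).noetherianSpace⟩) V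
  obtain ⟨N, hN, hag⟩ := exists_ftOn_top hG.1 p hp hsup hstep (ftOn_spanSub hV (Set.finite_singleton g))
  have hNc : Coh.IsCoh N.toModules := ⟨isQCoh_of_ftOn hG.1 hN, isFT_of_ftOn hG.1 hN⟩
  let G' : CohCat X := ⟨G, hG⟩
  let N' : CohCat X := ⟨N.toModules, hNc⟩
  obtain ⟨n, hn⟩ := N.exists_app_eq (show g ∈ N.mem V by
    rw [hag V le_rfl]; exact mem_spanSub (Set.mem_singleton g))
  have hnat : ∀ {A B : CohCat X} (f : A ⟶ B) (W : X.Opens) (x : Γ(A.obj, W)),
      (φ.app B).hom.app W (f.hom.app W x) = f.hom.app W ((φ.app A).hom.app W x) := fun f W x =>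
    congr(($(φ.naturality f)).hom.app W x)
  have hmem : (φ.app G').hom.app V g ∈ (spanSub {g}).mem V := by
    rw [← hag V le_rfl, ← hn]
    exact (hnat (A := N') (B := G') (ObjectProperty.homMk N.ι) V n).symm ▸ N.ι_app_mem V _
  refine sub_eq_zero.1 (eq_zero_of_locally V _ fun x hx => ?_)
  obtain ⟨P, hPV, hPV', hxP, hP⟩ := hmem x hx hx
  rw [Set.image_singleton, Submodule.mem_span_singleton] at hP
  obtain ⟨c, hc⟩ := hP
  refine ⟨P, homOfLE hPV, hxP, ?_⟩
  have key : ∀ (b : ULift.{u} Bool) (hb : Coh.IsCoh (T b)),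
      c • (T b).presheaf.map (homOfLE hPV).op ((biproduct.π T b).app V g) =
        (T b).presheaf.map (homOfLE hPV).op
          ((φ.app (⟨T b, hb⟩ : CohCat X)).hom.app V ((biproduct.π T b).app V g)) := fun b hb => by
    rw [show (φ.app (⟨T b, hb⟩ : CohCat X)).hom.app V ((biproduct.π T b).app V g) =
        (biproduct.π T b).app V ((φ.app G').hom.app V g) from
      hnat (A := G') (B := ⟨T b, hb⟩) (ObjectProperty.homMk (biproduct.π T b)) V g]
    rw [← map_app_comm, ← map_app_comm, ← Scheme.Modules.Hom.app_smul]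
    exact congrArg ((biproduct.π T b).app P) hc
  have h₁ := key ⟨true⟩ O.property
  have h₂ := key ⟨false⟩ M.property
  rw [hg₁] at h₁
  rw [hg₂] at h₂
  rw [map_sub, map_smul', sub_eq_zero]
  refine h₂.symm.trans ?_
  congr 1
  refine Eq.trans ?_ h₁
  exact ((congrArg (c * ·) (map_one (X.presheaf.map (homOfLE hPV).op).hom)).trans (mul_one c)).symm

theorem natTrans_app_eq_smul_res [IsNoetherian X] (φ : 𝟭 (CohCat X) ⟶ 𝟭 (CohCat X))
    (M : CohCat X) (U : X.Opens) (m : Γ(M.obj, U)) :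
    (show Γ(M.obj, U) from (φ.app M).hom.app U m) =
      (X.presheaf.map (homOfLE le_top : U ⟶ ⊤).op
        (show Γ(X, ⊤) from (φ.app (⟨Coh.structureModule X, isCoh_structureModule'⟩ : CohCat X)).hom.app ⊤
          (show Γ(Coh.structureModule X, ⊤) from (1 : Γ(X, ⊤))))) • m := by
  refine sub_eq_zero.1 (eq_zero_of_locally (M := M.obj) U _ fun y hy => ?_)
  obtain ⟨_, ⟨V, hV, rfl⟩, hyV, hVU⟩ := X.isBasis_affineOpens.exists_subset_of_mem_open hy U.2
  let i : V ⟶ U := homOfLE hVU
  refine ⟨V, i, hyV, ?_⟩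
  let O : CohCat X := ⟨Coh.structureModule X, isCoh_structureModule'⟩
  let one : Γ(O.obj, ⊤) := (show Γ(X, ⊤) from 1)
  rw [map_sub, map_smul', ← map_app_comm, natTrans_app_eq_smul φ M hV, sub_eq_zero]
  congr 1
  have h1 : O.obj.presheaf.map (homOfLE (le_top : V ≤ ⊤)).op one =
      (show Γ(O.obj, V) from (1 : Γ(X, V))) := map_one (X.presheaf.map (homOfLE le_top).op).hom
  have h2 := map_app_comm (φ.app O).hom (homOfLE (le_top : V ≤ ⊤)) one
  refine ((congrArg ((φ.app O).hom.app V) h1).symm.trans h2).trans ?_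
  exact (ringMap_map i (homOfLE le_top) (show Γ(X, ⊤) from (φ.app O).hom.app ⊤ one)).symm

theorem existsUnique_section [IsNoetherian X] (φ : 𝟭 (CohCat X) ⟶ 𝟭 (CohCat X)) :
    ∃! r : Coh.Γtop X, ∀ M : CohCat X,
      (SheafOfModules.toSheaf X.ringCatSheaf).map (φ.app M).hom = Coh.smulAb M.obj r := by
  let O : CohCat X := ⟨Coh.structureModule X, isCoh_structureModule'⟩
  let one : Γ(O.obj, ⊤) := (show Γ(X, ⊤) from 1)
  refine ⟨(show Γ(X, ⊤) from (φ.app O).hom.app ⊤ one), fun M => ?_, fun r hr => ?_⟩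
  · refine Sheaf.hom_ext (NatTrans.ext (funext fun U => ?_))
    ext x
    exact natTrans_app_eq_smul_res φ M U.unop x
  · have h := congr(($(hr O)).hom.app (op ⊤) one)
    refine Eq.trans ?_ h.symm
    exact ((congrArg (fun t : Γ(X, ⊤) => t * 1) (ringMap_id (homOfLE le_top) r)).trans (mul_one r)).symm

end Groth.Agent.CohGab92
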