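import Groth.Agent.CohGab92.SerreQuot
import Groth.Agent.QCohAb92.Restrict

/-!
# Restriction of coherent modules to an open as a localization
-/

set_option autoImplicit false

universe u

open CategoryTheory CategoryTheory.Limits AlgebraicGeometry TopologicalSpace Opposite

namespace Groth.Agent.CohGab92

open Groth.Agent.QCoh Groth.Agent.QCohAb92

variable (X : Scheme.{u})

/-- The inclusion of coherent modules into quasi-coherent ones. -/
noncomputable abbrev cohToQCoh :
    ObjectProperty.FullSubcategory (fun M : X.Modules => Coh.IsCoh M) ⥤ QCohCat.QCoh X :=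
  ObjectProperty.ιOfLE (P := (fun M : X.Modules => Coh.IsCoh M)) (P' := QCohCat.isQCoh X) (fun _ h => h.1)

theorem isLocalization_resCoh [IsNoetherian X] (U : X.Opens)
    (hres : ∀ M : X.Modules, Coh.IsCoh M → Coh.IsCoh ((Scheme.Modules.restrictFunctor U.ι).obj M)) :
    (ObjectProperty.lift (fun N : (↑U : Scheme.{u}).Modules => Coh.IsCoh N)
        (ObjectProperty.ι (fun M : X.Modules => Coh.IsCoh M) ⋙ Scheme.Modules.restrictFunctor U.ι)
        (fun M => hres M.obj M.property)).IsLocalization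
      (fun (A B : ObjectProperty.FullSubcategory (fun M : X.Modules => Coh.IsCoh M)) (f : A ⟶ B) =>
        CohB1.support (kernel f.hom) ⊆ (↑U : Set X)ᶜ ∧
          CohB1.support (cokernel f.hom) ⊆ (↑U : Set X)ᶜ) := by
  haveI : QuasiCompact U.ι := inferInstance
  haveI := faithful_pushQ U
  haveI := full_pushQ U
  haveI : PreservesFiniteLimits (resQ U) := by
    haveI : PreservesFiniteLimits (resQ U ⋙ (QCohCat.isQCoh (U : Scheme.{u})).ι) :=
      inferInstanceAs (PreservesFiniteLimits ((QCohCat.isQCoh X).ι ⋙ Scheme.Modules.restrictFunctor U.ι))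
    exact preservesFiniteLimits_of_reflects_of_preserves (resQ U) (QCohCat.isQCoh (U : Scheme.{u})).ι
  haveI : PreservesFiniteColimits (resQ U) := by
    haveI := (resPushAdj U).leftAdjoint_preservesColimits
    infer_instance
  haveI : PreservesFiniteLimits (cohToQCoh X) := by
    haveI : PreservesFiniteLimits (cohToQCoh X ⋙ (QCohCat.isQCoh X).ι) :=
      inferInstanceAs (PreservesFiniteLimits (cohP X).ι)
    exact preservesFiniteLimits_of_reflects_of_preserves (cohToQCoh X) (QCohCat.isQCoh X).ι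
  haveI : PreservesFiniteColimits (cohToQCoh X) := by
    haveI : PreservesFiniteColimits (cohToQCoh X ⋙ (QCohCat.isQCoh X).ι) :=
      inferInstanceAs (PreservesFiniteColimits (cohP X).ι)
    exact preservesFiniteColimits_of_reflects_of_preserves (cohToQCoh X) (QCohCat.isQCoh X).ι
  let J : ObjectProperty (QCohCat.QCoh X) := (resQ U).kernel
  haveI : (resQ U).IsLocalization J.isoModSerre :=
    Abelian.isLocalization_isoModSerre_kernel_of_leftAdjoint (resPushAdj U)
  haveI : (J.inverseImage (cohToQCoh X)).IsSerreClass := inferInstance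
  let W' := (J.inverseImage (cohToQCoh X)).isoModSerre
  set L₀ := ObjectProperty.lift (fun N : (↑U : Scheme.{u}).Modules => Coh.IsCoh N)
    (ObjectProperty.ι (fun M : X.Modules => Coh.IsCoh M) ⋙ Scheme.Modules.restrictFunctor U.ι)
    (fun M => hres M.obj M.property)
  have hW : W' = fun (A B : ObjectProperty.FullSubcategory (fun M : X.Modules => Coh.IsCoh M)) (f : A ⟶ B) =>
      CohB1.support (kernel f.hom) ⊆ (↑U : Set X)ᶜ ∧
        CohB1.support (cokernel f.hom) ⊆ (↑U : Set X)ᶜ := by
    ext A B f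
    refine (SerreQuot.isoModSerre_inverseImage_iff (cohToQCoh X) J f).trans ?_
    rw [show J.isoModSerre = (MorphismProperty.isomorphisms _).inverseImage (resQ U) from
      Abelian.isoModSerre_kernel_eq_inverseImage_isomorphisms (resQ U), inverseImage_isomorphisms_resQ]
    exact Iff.rfl
  rw [← hW]
  have hinv : W'.IsInvertedBy L₀ := fun A B f hf => by
    rw [hW] at hf
    haveI : IsIso ((Scheme.Modules.restrictFunctor U.ι).map f.hom) :=
      (isIso_restrict_iff f.hom A.property.1 B.property.1 U).2 hf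
    haveI : IsIso ((ObjectProperty.ι (fun N : (↑U : Scheme.{u}).Modules => Coh.IsCoh N)).map (L₀.map f)) := this
    exact isIso_of_reflects_iso (L₀.map f) (ObjectProperty.ι (fun N : (↑U : Scheme.{u}).Modules => Coh.IsCoh N))
  let Φ := Localization.lift L₀ hinv W'.Q
  let e₀ : W'.Q ⋙ Φ ≅ L₀ := Localization.fac L₀ hinv W'.Q
  let iU := cohToQCoh (U : Scheme.{u})
  let e : W'.Q ⋙ (Φ ⋙ iU) ≅ cohToQCoh X ⋙ resQ U :=
    (Functor.associator _ _ _).symm ≪≫ Functor.isoWhiskerRight e₀ iU
  haveI : (cohToQCoh X).Faithful := ObjectProperty.faithful_ιOfLE _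
  haveI : (cohToQCoh X).Full := ObjectProperty.full_ιOfLE _
  obtain ⟨hF, hFa⟩ := SerreQuot.full_and_faithful (cohToQCoh X) J (resQ U) W'.Q (Φ ⋙ iU) e
    (fun M N f _ _ => by
      haveI : Mono f.hom := inferInstanceAs (Mono ((QCohCat.isQCoh X).ι.map f))
      exact ⟨⟨N.obj, isCoh_of_mono f.hom M.property N.property⟩, ⟨Iso.refl _⟩⟩)
    (fun M N p _ _ => by
      haveI : Epi p.hom := inferInstanceAs (Epi ((QCohCat.isQCoh X).ι.map p))
      exact ⟨⟨N.obj, isCoh_of_epi p.hom M.property N.property⟩, ⟨Iso.refl _⟩⟩)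
  haveI : iU.Faithful := ObjectProperty.faithful_ιOfLE _
  haveI : Φ.Faithful := Functor.Faithful.of_comp Φ iU
  haveI : Φ.Full := Functor.Full.of_comp_faithful Φ iU
  haveI : Φ.EssSurj := ⟨fun G => by
    obtain ⟨G', h₁, h₂, ⟨eG⟩⟩ := exists_extension_abs
      (extStep_noetherian (fun x => ⟨⊤, trivial, (Topology.IsInducing.subtypeVal).noetherianSpace⟩) U)
      G.obj G.property.1 G.property.2
    exact ⟨W'.Q.obj ⟨G', h₁, h₂⟩, ⟨e₀.app _ ≪≫ ObjectProperty.isoMk _ eG⟩⟩⟩
  haveI : Φ.IsEquivalence := { }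
  exact Functor.IsLocalization.of_equivalence_target W'.Q W' L₀ Φ.asEquivalence e₀

end Groth.Agent.CohGab92
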