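import Groth.Agent.CohGab92.Basic

set_option autoImplicit false

universe u

open CategoryTheory CategoryTheory.Limits AlgebraicGeometry TopologicalSpace Opposite

namespace Groth.Agent.CohGab92

open Groth.Agent.QCoh

variable {X : Scheme.{u}}

/-- Every closed subset is the support of a coherent module. -/
theorem exists_coh_support [IsNoetherian X] (Z : Closeds X) :
    ∃ F : X.Modules, Coh.IsCoh F ∧ CohB1.support F = (Z : Set X) := by
  set J := Scheme.IdealSheafData.vanishingIdeal Z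
  have hr : Set.range J.subschemeι = (Z : Set X) := by
    rw [Scheme.IdealSheafData.range_subschemeι, Scheme.IdealSheafData.coe_support_vanishingIdeal]
  have hc := isCoh_push_structure J.subschemeι
  refine ⟨_, hc, le_antisymm ((support_push_subset J.subschemeι isQCoh_structureModule).trans hr.le) ?_⟩
  intro x hx
  by_contra hn
  obtain ⟨z, rfl⟩ := hr.ge hx
  obtain ⟨U, hU, hzU⟩ := exists_affine_mem (J.subschemeι z)
  obtain ⟨a, ha, ha0⟩ := (notMem_support_iff hc.1 hU hzU).1 hn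
    (show Γ(Coh.structureModule J.subscheme, J.subschemeι ⁻¹ᵁ U) from (1 : Γ(J.subscheme, J.subschemeι ⁻¹ᵁ U)))
  have h1 : J.subschemeι.app U a * 1 = 0 := ha0
  rw [mul_one] at h1
  have h2 : z ∈ J.subschemeι ⁻¹ᵁ X.basicOpen a := ha
  rw [Scheme.preimage_basicOpen, h1, Scheme.basicOpen_zero] at h2
  exact h2

theorem isPreirreducible_iff (X : Scheme.{u}) [IsNoetherian X] (Z : Closeds X) :
    IsPreirreducible (↑Z : Set X) ↔
    ∀ J₁ J₂ : ObjectProperty X.Modules, IsSerreCoh J₁ → IsSerreCoh J₂ →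
      (∀ M : X.Modules, Coh.IsCoh M → J₁ M → CohB1.support M ⊆ (↑Z : Set X)) →
      (∀ M : X.Modules, Coh.IsCoh M → J₂ M → CohB1.support M ⊆ (↑Z : Set X)) →
      (∀ Q : ObjectProperty X.Modules, IsSerreCoh Q →
        (∀ M : X.Modules, Coh.IsCoh M → J₁ M → Q M) → (∀ M : X.Modules, Coh.IsCoh M → J₂ M → Q M) →
        ∀ M : X.Modules, Coh.IsCoh M → CohB1.support M ⊆ (↑Z : Set X) → Q M) →
      (∀ M : X.Modules, Coh.IsCoh M → CohB1.support M ⊆ (↑Z : Set X) → J₁ M) ∨
        (∀ M : X.Modules, Coh.IsCoh M → CohB1.support M ⊆ (↑Z : Set X) → J₂ M) := by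
  constructor
  · intro hZ J₁ J₂ h₁ h₂ hs₁ hs₂ hgen
    obtain ⟨F, hF, hFs⟩ := exists_coh_support Z
    rcases Set.eq_empty_or_nonempty (Z : Set X) with he | hne
    · by_cases hj : (∃ M, Coh.IsCoh M ∧ J₁ M) ∨ (∃ M, Coh.IsCoh M ∧ J₂ M)
      · rcases hj with ⟨M, hM, hJM⟩ | ⟨M, hM, hJM⟩
        · exact .inl fun E hE hEs => mem_of_support_subset h₁ hM hJM hE
            ((hEs.trans he.le).trans (Set.empty_subset _))
        · exact .inr fun E hE hEs => mem_of_support_subset h₂ hM hJM hE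
            ((hEs.trans he.le).trans (Set.empty_subset _))
      · exact absurd (hgen (fun _ => False) (fun S _ _ _ _ => by simp)
          (fun M hM h => hj (.inl ⟨M, hM, h⟩)) (fun M hM h => hj (.inr ⟨M, hM, h⟩)) F hF hFs.le) id
    · obtain ⟨ξ, hξ⟩ := QuasiSober.sober ⟨hne, hZ⟩ Z.isClosed
      by_cases hj : (∃ M, Coh.IsCoh M ∧ J₁ M ∧ ξ ∈ CohB1.support M) ∨
          (∃ M, Coh.IsCoh M ∧ J₂ M ∧ ξ ∈ CohB1.support M)
      · have key : ∀ M : X.Modules, Coh.IsCoh M → ξ ∈ CohB1.support M → (Z : Set X) ⊆ CohB1.support M :=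
          fun M hM h => hξ ▸ closure_minimal (Set.singleton_subset_iff.2 h)
            (isClosed_support_of_isFT hM.1 hM.2)
        rcases hj with ⟨M, hM, hJM, hm⟩ | ⟨M, hM, hJM, hm⟩
        · exact .inl fun E hE hEs => mem_of_support_subset h₁ hM hJM hE (hEs.trans (key M hM hm))
        · exact .inr fun E hE hEs => mem_of_support_subset h₂ hM hJM hE (hEs.trans (key M hM hm))
      · refine absurd (hgen (fun M => CohB1.support M ⊆ (Z : Set X) \ {ξ}) (isSerreCoh_support _)
          (fun M hM h => Set.subset_sdiff_singleton (hs₁ M hM h) fun hm => hj (.inl ⟨M, hM, h, hm⟩))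
          (fun M hM h => Set.subset_sdiff_singleton (hs₂ M hM h) fun hm => hj (.inr ⟨M, hM, h, hm⟩))
          F hF hFs.le) ?_
        exact fun h => (h (hFs.ge (hξ.mem))).2 rfl
  · intro h
    rw [isPreirreducible_iff_isClosed_union_isClosed]
    intro Z₁ Z₂ hc₁ hc₂ hsub
    set W₁ : Closeds X := ⟨(Z : Set X) ∩ Z₁, Z.isClosed.inter hc₁⟩
    set W₂ : Closeds X := ⟨(Z : Set X) ∩ Z₂, Z.isClosed.inter hc₂⟩
    obtain ⟨F, hF, hFs⟩ := exists_coh_support Z
    obtain ⟨F₁, hF₁, hs₁⟩ := exists_coh_support W₁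
    obtain ⟨F₂, hF₂, hs₂⟩ := exists_coh_support W₂
    have hgen : ∀ Q : ObjectProperty X.Modules, IsSerreCoh Q →
        (∀ M : X.Modules, Coh.IsCoh M → CohB1.support M ⊆ (W₁ : Set X) → Q M) →
        (∀ M : X.Modules, Coh.IsCoh M → CohB1.support M ⊆ (W₂ : Set X) → Q M) →
        ∀ M : X.Modules, Coh.IsCoh M → CohB1.support M ⊆ (↑Z : Set X) → Q M := by
      intro Q hQ g₁ g₂ M hM hMs
      haveI := hasFiniteBiproducts X
      have hB₁ := g₁ F₁ hF₁ hs₁.le
      have hB₂ := g₂ F₂ hF₂ hs₂.le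
      set T : ULift.{u} Bool → X.Modules := fun b => bif b.down then F₁ else F₂
      have hTc : ∀ b, Coh.IsCoh (T b) := fun ⟨b⟩ => by cases b <;> assumption
      have hS : (ShortComplex.mk (biproduct.ι T ⟨true⟩) (biproduct.π T ⟨false⟩)
          (biproduct.ι_π_ne T (by simp))).ShortExact := by
        refine ShortComplex.Splitting.shortExact
          { r := biproduct.π T ⟨true⟩
            s := biproduct.ι T ⟨false⟩
            f_r := biproduct.ι_π_self T _
            s_g := biproduct.ι_π_self T _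
            id := ?_ }
        refine biproduct.hom_ext' _ _ fun ⟨b⟩ => ?_
        cases b <;> simp [Preadditive.comp_add, biproduct.ι_π_self_assoc, biproduct.ι_π_ne_assoc]
      have hsupp := support_of_shortExact hS (hTc ⟨true⟩).1 (isCoh_biproduct T hTc).1 (hTc ⟨false⟩).1
      refine mem_of_support_subset hQ (isCoh_biproduct T hTc)
        ((hQ _ hS (hTc ⟨true⟩) (isCoh_biproduct T hTc) (hTc ⟨false⟩)).2 ⟨hB₁, hB₂⟩) hM (hMs.trans ?_)
      intro x hx
      rw [show CohB1.support (⨁ T) = CohB1.support F₁ ∪ CohB1.support F₂ from hsupp, hs₁, hs₂]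
      exact (hsub hx).imp (fun h => ⟨hx, h⟩) (fun h => ⟨hx, h⟩)
    rcases h (fun M => CohB1.support M ⊆ W₁) (fun M => CohB1.support M ⊆ W₂) (isSerreCoh_support _)
      (isSerreCoh_support _) (fun M _ h => h.trans Set.inter_subset_left)
      (fun M _ h => h.trans Set.inter_subset_left) hgen with k | k
    · exact .inl ((hFs.ge.trans (k F hF hFs.le)).trans Set.inter_subset_right)
    · exact .inr ((hFs.ge.trans (k F hF hFs.le)).trans Set.inter_subset_right)

end Groth.Agent.CohGab92
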