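import Mathlib

/-!
# Full faithfulness of the functor between Serre quotients induced by an exact full inclusion
-/

set_option autoImplicit false

universe v u v' u' v'' u''

open CategoryTheory CategoryTheory.Limits

namespace Groth.Agent.CohGab92.SerreQuot

variable {A A' : Type u} [Category.{v} A] [Abelian A] [Category.{v} A'] [Abelian A']
  (i : A' ⥤ A) [i.Full] [i.Faithful] [PreservesFiniteLimits i] [PreservesFiniteColimits i]
  (J : ObjectProperty A) [J.IsSerreClass] [(J.inverseImage i).IsSerreClass]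

omit [i.Full] [i.Faithful] in
theorem isoModSerre_inverseImage_iff {M N : A'} (f : M ⟶ N) :
    (J.inverseImage i).isoModSerre f ↔ J.isoModSerre (i.map f) := by
  haveI : i.Additive := Functor.additive_of_preserves_binary_products i
  rw [ObjectProperty.isoModSerre_iff, ObjectProperty.isoModSerre_iff,
    ObjectProperty.monoModSerre_iff, ObjectProperty.monoModSerre_iff,
    ObjectProperty.epiModSerre_iff, ObjectProperty.epiModSerre_iff]
  exact and_congr (J.prop_iff_of_iso (PreservesKernel.iso i f))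
    (J.prop_iff_of_iso (PreservesCokernel.iso i f))

/-- The image of a morphism commutes with an exact functor. -/
noncomputable def imageIso [i.Additive] {M N : A'} (f : M ⟶ N) :
    i.obj (Abelian.image f) ≅ Abelian.image (i.map f) :=
  PreservesKernel.iso i (cokernel.π f) ≪≫
    kernel.mapIso _ _ (Iso.refl _) (PreservesCokernel.iso i f) (by
      simp [PreservesCokernel.π_iso_hom])

variable {Q : Type u'} [Category.{v'} Q] (L : A ⥤ Q) [L.IsLocalization J.isoModSerre]
  {Q' : Type u''} [Category.{v''} Q'] (L' : A' ⥤ Q') [L'.IsLocalization (J.inverseImage i).isoModSerre]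

omit [i.Full] [i.Faithful] in
include i J in
theorem map_eq_of_map_eq {M N : A'} (a b : M ⟶ N) (h : L.map (i.map a) = L.map (i.map b)) :
    L'.map a = L'.map b := by
  haveI : i.Additive := Functor.additive_of_preserves_binary_products i
  rw [MorphismProperty.map_eq_iff_precomp L J.isoModSerre] at h
  obtain ⟨T, σ, hσ, he⟩ := h
  have h1 : J (Abelian.image (i.map (a - b))) :=
    (J.exists_isoModSerre_comp_eq_zero_iff _).1
      ⟨T, σ, hσ, by rw [i.map_sub, Preadditive.comp_sub, he, sub_self]⟩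
  have h2 : (J.inverseImage i) (Abelian.image (a - b)) := J.prop_of_iso (imageIso i (a - b)).symm h1
  obtain ⟨T', σ', hσ', he'⟩ := ((J.inverseImage i).exists_isoModSerre_comp_eq_zero_iff _).2 h2
  rw [MorphismProperty.map_eq_iff_precomp L' (J.inverseImage i).isoModSerre]
  exact ⟨T', σ', hσ', sub_eq_zero.1 (by rw [← Preadditive.comp_sub, he'])⟩

include i in
theorem exists_fraction
    (hsub : ∀ (M : A') (N : A) (f : N ⟶ i.obj M), Mono f → J N → i.essImage N)
    (hquot : ∀ (M : A') (N : A) (p : i.obj M ⟶ N), Epi p → J N → i.essImage N)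
    {M N : A'} (g : L.obj (i.obj M) ⟶ L.obj (i.obj N)) :
    ∃ (M' N' : A') (m : M' ⟶ M) (n : N ⟶ N') (f : M' ⟶ N'),
      (J.inverseImage i).isoModSerre m ∧ (J.inverseImage i).isoModSerre n ∧
        L.map (i.map m) ≫ g ≫ L.map (i.map n) = L.map (i.map f) := by
  haveI : i.Additive := Functor.additive_of_preserves_binary_products i
  obtain ⟨φ, hφ⟩ := Localization.exists_rightFraction L J.isoModSerre g
  -- the target, with the image of the kernel of the denominator removed
  let κ := kernel.ι φ.s ≫ φ.f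
  have hK : J (kernel φ.s) := φ.hs.1
  have hB : J (Abelian.image κ) := J.prop_of_epi (Abelian.factorThruImage κ) hK
  obtain ⟨B', ⟨eB⟩⟩ := hsub N (Abelian.image κ) (Abelian.image.ι κ) inferInstance hB
  let b : B' ⟶ N := i.preimage (eB.hom ≫ Abelian.image.ι κ)
  have hb : i.map b = eB.hom ≫ Abelian.image.ι κ := i.map_preimage _
  haveI : Mono b := i.mono_of_mono_map (by rw [hb]; infer_instance)
  have hn : (J.inverseImage i).isoModSerre (cokernel.π b) := by
    refine (J.inverseImage i).isoModSerre_of_epi _ ?_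
    have hB' : (J.inverseImage i) B' := J.prop_of_iso eB.symm hB
    have h0 : cokernel.π b = cokernel.π b := rfl
    rw [ObjectProperty.monoModSerre_iff]
    exact (J.inverseImage i).prop_of_iso
      ((asIso (kernel.lift (cokernel.π b) b (cokernel.condition b)))) hB'
  -- the source, the image of the denominator
  obtain ⟨C', ⟨eC⟩⟩ := hquot M (cokernel φ.s) (cokernel.π φ.s) inferInstance φ.hs.2
  let π₀ : M ⟶ C' := i.preimage (cokernel.π φ.s ≫ eC.inv)
  have hπ₀ : i.map π₀ = cokernel.π φ.s ≫ eC.inv := i.map_preimage _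
  let eI : Abelian.image φ.s ≅ i.obj (kernel π₀) :=
    kernel.mapIso (cokernel.π φ.s) (i.map π₀) (Iso.refl _) eC.symm (by simp [hπ₀]) ≪≫
      (PreservesKernel.iso i π₀).symm
  let p := Abelian.factorThruImage φ.s ≫ eI.hom
  have hp : p ≫ i.map (kernel.ι π₀) = φ.s := by
    simp [p, eI, PreservesKernel.iso_inv_ι, Abelian.image.fac]
  have hpW : J.isoModSerre p := by
    refine J.isoModSerre_of_epi _ ?_
    rw [ObjectProperty.monoModSerre_iff]
    exact J.prop_of_mono (kernel.map p φ.s (𝟙 _) (i.map (kernel.ι π₀)) (by simp [hp])) hK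
  have hm : (J.inverseImage i).isoModSerre (kernel.ι π₀) := by
    rw [isoModSerre_inverseImage_iff]
    exact J.isoModSerre.of_precomp p _ hpW (by rw [hp]; exact φ.hs)
  -- the numerator descends
  have hker : kernel.ι p ≫ φ.f ≫ i.map (cokernel.π b) = 0 := by
    have h1 : kernel.ι p ≫ φ.s = 0 := (congrArg (kernel.ι p ≫ ·) hp).symm.trans (by simp)
    have h2 : kernel.ι p = kernel.lift φ.s (kernel.ι p) h1 ≫ kernel.ι φ.s := (kernel.lift_ι _ _ _).symm
    have h3 : Abelian.image.ι κ ≫ i.map (cokernel.π b) = 0 := by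
      rw [← cancel_epi eB.hom, ← Category.assoc, ← hb, ← i.map_comp, cokernel.condition,
        i.map_zero, comp_zero]
    have h4 : κ ≫ i.map (cokernel.π b) = 0 := by
      rw [← Abelian.image.fac κ, Category.assoc, h3, comp_zero]
    rw [h2, Category.assoc, ← Category.assoc (kernel.ι φ.s), h4, comp_zero]
  let f₁ := (Abelian.epiIsCokernelOfKernel _ (kernelIsKernel p)).desc
    (CokernelCofork.ofπ (φ.f ≫ i.map (cokernel.π b)) hker)
  have hf₁ : p ≫ f₁ = φ.f ≫ i.map (cokernel.π b) :=
    (Abelian.epiIsCokernelOfKernel _ (kernelIsKernel p)).fac _ WalkingParallelPair.one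
  refine ⟨kernel π₀, cokernel b, kernel.ι π₀, cokernel.π b, i.preimage f₁, hm, hn, ?_⟩
  haveI : IsIso (L.map p) := Localization.inverts L J.isoModSerre p hpW
  rw [← cancel_epi (L.map p), i.map_preimage, ← L.map_comp, hf₁, ← Category.assoc, ← L.map_comp, hp,
    hφ, MorphismProperty.RightFraction.map_s_comp_map_assoc, ← L.map_comp]

variable (Φ : Q' ⥤ Q) (e : L' ⋙ Φ ≅ i ⋙ L)

include e in
theorem full_and_faithful
    (hsub : ∀ (M : A') (N : A) (f : N ⟶ i.obj M), Mono f → J N → i.essImage N)
    (hquot : ∀ (M : A') (N : A) (p : i.obj M ⟶ N), Epi p → J N → i.essImage N) :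
    Φ.Full ∧ Φ.Faithful := by
  let W' := (J.inverseImage i).isoModSerre
  haveI := Localization.essSurj L' W'
  have hL' : W'.IsInvertedBy L' := Localization.inverts L' W'
  have hΦ : ∀ {M N : A'} (a : M ⟶ N),
      Φ.map (L'.map a) = e.hom.app M ≫ L.map (i.map a) ≫ e.inv.app N := fun {M N} a => by
    rw [← Category.assoc]
    exact (Iso.eq_comp_inv (e.app N)).2 (e.hom.naturality a)
  have hinj : ∀ {M N : A'} (u v : L'.obj M ⟶ L'.obj N), Φ.map u = Φ.map v → u = v := by
    intro M N u v h
    obtain ⟨φ, rfl, rfl⟩ := Localization.exists_leftFraction₂ L' W' u v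
    haveI := hL' _ φ.hs
    rw [← cancel_mono (L'.map φ.s), MorphismProperty.LeftFraction.map_comp_map_s,
      MorphismProperty.LeftFraction.map_comp_map_s]
    refine map_eq_of_map_eq i J L L' _ _ ?_
    have h' : Φ.map (φ.fst.map L' (Localization.inverts L' W') ≫ L'.map φ.fst.s) =
        Φ.map (φ.snd.map L' (Localization.inverts L' W') ≫ L'.map φ.snd.s) := by
      simp only [Φ.map_comp, h]
    rw [MorphismProperty.LeftFraction.map_comp_map_s, MorphismProperty.LeftFraction.map_comp_map_s,
      hΦ, hΦ, cancel_epi, cancel_mono] at h'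
    exact h'
  have hsurj : ∀ {M N : A'} (g : Φ.obj (L'.obj M) ⟶ Φ.obj (L'.obj N)), ∃ g₀, Φ.map g₀ = g := by
    intro M N g
    obtain ⟨M', N', m, n, f, hm, hn, h⟩ :=
      exists_fraction i J L hsub hquot (e.inv.app M ≫ g ≫ e.hom.app N)
    haveI := hL' _ hm
    haveI := hL' _ hn
    refine ⟨inv (L'.map m) ≫ L'.map f ≫ inv (L'.map n), ?_⟩
    rw [← cancel_epi (Φ.map (L'.map m)), ← cancel_mono (Φ.map (L'.map n)), ← Φ.map_comp,
      IsIso.hom_inv_id_assoc, ← Φ.map_comp, Category.assoc, IsIso.inv_hom_id, Category.comp_id, hΦ f,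
      hΦ m, hΦ n, ← h]
    simp
  refine ⟨⟨fun {X Y} g => ?_⟩, ⟨fun {X Y} u v h => ?_⟩⟩
  · obtain ⟨g₀, h₀⟩ := hsurj (Φ.map (L'.objObjPreimageIso X).hom ≫ g ≫ Φ.map (L'.objObjPreimageIso Y).inv)
    exact ⟨(L'.objObjPreimageIso X).inv ≫ g₀ ≫ (L'.objObjPreimageIso Y).hom, by
      simp [h₀, ← Φ.map_comp, ← Φ.map_comp_assoc]⟩
  · rw [← cancel_epi (L'.objObjPreimageIso X).hom, ← cancel_mono (L'.objObjPreimageIso Y).inv]
    refine hinj _ _ ?_
    simp [h]

end Groth.Agent.CohGab92.SerreQuot
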